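import Groth.Agent.Verlinde.Schur

set_option autoImplicit false
set_option linter.style.haveILetI false
open Matrix Equiv Finset Groth.Agent.Verlinde.Basic Groth.Agent.Verlinde.Schur

namespace Groth.Agent.Verlinde.Norm

theorem norm_sum (r k : ℕ) (hr : 1 ≤ r) (hk : 1 ≤ k) (v : Fin r → ℕ) (hv : StrictAnti v)
    (hvlt : ∀ i, v i < r + k) :
    ∑ μ ∈ (univ : Finset (Fin r → Fin k)).filter (fun μ : Fin r → Fin k => Antitone μ),
        alt (fun j => E (r + k) (v j)) (fun i => (μ i : ℕ) + (r - 1 - (i : ℕ))) /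
            alt (fun j => E (r + k) (v j)) (fun i => r - 1 - (i : ℕ)) *
          (alt (fun j => E (r + k) (v j)) (fun i => (k - (μ (Fin.rev i) : ℕ)) + (r - 1 - (i : ℕ))) /
            alt (fun j => E (r + k) (v j)) (fun i => r - 1 - (i : ℕ))) =
      E (r + k) ((k : ℂ) * ((∑ j, v j : ℕ) : ℂ)) * ((k : ℂ) * ((r : ℂ) + k) ^ (r - 1)) /
        (∏ p ∈ (Finset.univ : Finset (Fin r × Fin r)).filter (fun p => p.1 < p.2),
          (((2 : ℝ) * Real.sin (Real.pi * ((v p.1 : ℝ) - (v p.2 : ℝ)) / ((r : ℝ) + k))) ^ 2 : ℝ) : ℂ) := by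
  obtain ⟨m, rfl⟩ : ∃ m, k = m + 1 := ⟨k - 1, by omega⟩
  have hN0 : r + (m + 1) ≠ 0 := by omega
  set N := r + (m + 1) with hN
  set z : Fin r → ℂ := fun j => E N (v j)
  have hz0 : ∀ j, z j ≠ 0 := fun j => E_ne_zero _
  have hzN : ∀ j, z j ^ (r + (m + 1)) = 1 := fun j => E_natCast_pow_N hN0 _
  set C : ℂ := (∏ j, z j)⁻¹ / (alt z (fun i => r - 1 - (i : ℕ)) * (Matrix.vandermonde z).det) with hC
  let A : Fin r → Fin (m + r) → ℂ := fun j a => z j ^ (a : ℕ)
  let B : Fin r → Fin (m + r) → ℂ := fun j a => (z j)⁻¹ ^ (a : ℕ)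
  have hsum := sum_antitone_eq (r := r) hr m (m + r) rfl
    (fun e => alt z e * alt (fun j => (z j)⁻¹) e * C) (fun _ => True)
  simp only [and_true] at hsum
  rw [Finset.sum_congr rfl fun μ _ =>
    schur_mul hr (m + 1) z z hzN (fun i => (μ i : ℕ)) (fun i => (μ i).isLt.le), ← hC, hsum]
  have halt : ∀ w : Fin r → Fin (m + r), alt z (fun i => (w i : ℕ)) *
      alt (fun j => (z j)⁻¹) (fun i => (w i : ℕ)) = minor A w * minor B w := by
    intro w
    rw [alt, alt, ← Matrix.det_transpose, ← Matrix.det_transpose (Matrix.of fun i j => (z j)⁻¹ ^ (w i : ℕ))]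
    rfl
  simp only [halt, ← Finset.sum_mul, cauchyBinet]
  have hinj : ∀ j l : Fin r, (N : ℤ) ∣ ((v j : ℤ) - v l) ↔ j = l := by
    intro j l
    refine ⟨fun h => hv.injective ?_, fun h => by simp [h]⟩
    have := hvlt j
    have := hvlt l
    have := Int.eq_zero_of_abs_lt_dvd h (abs_lt.mpr ⟨by omega, by omega⟩)
    omega
  have hM : ∀ j l, (∑ a, A j a * B l a) = (if j = l then (N : ℂ) else 0) + (-(z j)⁻¹) * z l := by
    intro j l
    have h1 : ∀ a : ℕ, z j ^ a * (z l)⁻¹ ^ a = E N (((v j : ℤ) - v l : ℤ) : ℂ) ^ a := by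
      intro a
      rw [← mul_pow, ← div_eq_mul_inv, ← E_sub]
      push_cast
      rfl
    have h2 := sum_E_pow_int hN0 ((v j : ℤ) - v l)
    rw [Fin.sum_univ_eq_sum_range (fun a => E N (((v j : ℤ) - v l : ℤ) : ℂ) ^ a),
      show N = m + r + 1 by omega, Finset.sum_range_succ] at h2
    simp only [A, B, h1]
    rw [Fin.sum_univ_eq_sum_range (fun a => E N (((v j : ℤ) - v l : ℤ) : ℂ) ^ a)]
    rw [if_congr (hinj j l).symm (Eq.refl (N : ℂ)) (Eq.refl 0)]
    have h3 : E N (((v j : ℤ) - v l : ℤ) : ℂ) ^ (m + r) = (z j)⁻¹ * z l := by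
      rw [← h1 (m + r)]
      have e1 : z j ^ (m + r) = (z j)⁻¹ := eq_inv_of_mul_eq_one_left (by
        rw [← pow_succ]; convert hzN j using 2; omega)
      have e2 : (z l)⁻¹ ^ (m + r) = z l := by
        rw [inv_pow, eq_inv_of_mul_eq_one_left (a := z l ^ (m + r)) (b := z l) (by
          rw [← pow_succ]; convert hzN l using 2; omega), inv_inv]
      rw [e1, e2]
    rw [show m + r + 1 = N by omega, h3] at h2
    linear_combination h2
  have hdet : (Matrix.of fun j l => ∑ a, A j a * B l a).det =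
      ((m + 1 : ℕ) : ℂ) * (N : ℂ) ^ (r - 1) := by
    simp only [hM]
    rw [det_smul_one_add _ (Nat.cast_ne_zero.mpr hN0) hr (fun j => -(z j)⁻¹) z,
      Finset.sum_congr rfl (fun j _ => show z j * -(z j)⁻¹ = -1 by rw [mul_neg, mul_inv_cancel₀ (hz0 j)]),
      Finset.sum_const, Finset.card_univ, Fintype.card_fin, hN]
    push_cast
    simp
    ring
  rw [hdet]
  have hP := vandermonde_mul_inv (N := N) v
  have hVinv : (Matrix.vandermonde fun j => E N (-(v j : ℂ))) = Matrix.vandermonde fun j => (z j)⁻¹ := by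
    simp only [z, E_neg]
  rw [hVinv] at hP
  have hden : alt z (fun i => r - 1 - (i : ℕ)) * (Matrix.vandermonde z).det = (∏ j, z j) ^ (r - 1) *
      ((∏ p ∈ (univ : Finset (Fin r × Fin r)).filter (fun p => p.1 < p.2),
        ((2 : ℝ) * Real.sin (Real.pi * ((v p.1 : ℝ) - (v p.2 : ℝ)) / (N : ℝ))) ^ 2 : ℝ) : ℂ) := by
    rw [← hP, alt_inv_rev z hz0, Finset.prod_pow]
    ring
  have hphase : (∏ j, z j)⁻¹ / (∏ j, z j) ^ (r - 1) = E N (((m + 1 : ℕ) : ℂ) * ((∑ j, v j : ℕ) : ℂ)) := by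
    have hprod : (∏ j, z j) = E N ((∑ j, v j : ℕ) : ℂ) := by
      rw [Nat.cast_sum, E_sum]
    have hpos : (∏ j, z j) ≠ 0 := Finset.prod_ne_zero_iff.mpr fun j _ => hz0 j
    rw [← E_pow, ← hprod, div_eq_iff (pow_ne_zero _ hpos), ← pow_add]
    refine (eq_inv_of_mul_eq_one_left ?_).symm
    rw [← pow_succ, show m + 1 + (r - 1) + 1 = N by omega, hprod]
    exact E_natCast_pow_N hN0 _
  rw [hC, hden, ← hphase]
  simp only [hN]
  push_cast
  simp only [div_eq_mul_inv, mul_inv]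
  ring

end Groth.Agent.Verlinde.Norm
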