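import Groth.Agent.Verlinde.Basic

set_option autoImplicit false
set_option linter.style.haveILetI false
open Matrix Equiv Finset Groth.Agent.Verlinde.Basic

namespace Groth.Agent.Verlinde.Orth

variable {r N : ℕ}

lemma no_perm (v v' : Fin r → ℕ) (hv : StrictAnti v) (hv' : StrictAnti v') (hvlt : ∀ i, v i < N)
    (hv'lt : ∀ i, v' i < N) (hne : ¬ ∃ a : ℤ, ∀ i, (v i : ℤ) - (v' i : ℤ) = a) (s : ℤ)
    (hs : ∑ i, ((v i : ℤ) - v' i) = r * s) (π : Perm (Fin r)) :
    ¬ ∀ j, (N : ℤ) ∣ (v j : ℤ) - v' (π j) - s := by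
  intro h
  choose d hd using h
  have hsum : ∑ j, (N : ℤ) * d j = 0 := by
    rw [Finset.sum_congr rfl fun j _ => (hd j).symm, sum_sub_distrib, sum_sub_distrib,
      Equiv.sum_comp π (fun j => (v' j : ℤ)), ← sum_sub_distrib, hs, sum_const, card_univ,
      Fintype.card_fin, nsmul_eq_mul, sub_self]
  have hzero : ∀ j, d j = 0 := by
    by_contra hc
    push Not at hc
    obtain ⟨j, hj⟩ := hc
    rw [← mul_sum, mul_eq_zero] at hsum
    have hN : (N : ℤ) ≠ 0 := by have := hvlt j; omega
    have hsum' := hsum.resolve_left hN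
    obtain ⟨p, -, hp⟩ := exists_pos_of_sum_zero_of_exists_nonzero d hsum' ⟨j, mem_univ _, hj⟩
    obtain ⟨q, -, hq⟩ := exists_pos_of_sum_zero_of_exists_nonzero (fun i => - d i)
      (by rw [sum_neg_distrib, hsum', neg_zero]) ⟨j, mem_univ _, neg_ne_zero.mpr hj⟩
    have hp' := hd p
    have hq' := hd q
    have := hvlt p
    have := hvlt q
    have := hv'lt (π p)
    have := hv'lt (π q)
    have : (N : ℤ) * 1 ≤ (N : ℤ) * d p := mul_le_mul_of_nonneg_left (by omega) (by omega)
    have : (N : ℤ) * d q ≤ (N : ℤ) * (-1) := mul_le_mul_of_nonneg_left (by omega) (by omega)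
    omega
  have heq : ∀ j, (v j : ℤ) - v' (π j) = s := fun j => by
    have := hd j
    rw [hzero j, mul_zero] at this
    omega
  have hmono : StrictMono (π : Fin r → Fin r) := fun a b hab => by
    have := heq a
    have := heq b
    have := hv hab
    exact (hv'.lt_iff_gt).mp (by omega)
  have hid : (π : Fin r → Fin r) = id :=
    (StrictMono.range_inj hmono strictMono_id).mp (by simp [π.surjective.range_eq])
  refine hne ⟨s, fun j => ?_⟩
  have := heq j
  rwa [hid] at this

theorem orth (hr : 1 ≤ r) [NeZero N] (v v' : Fin r → ℕ) (hv : StrictAnti v) (hv' : StrictAnti v')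
    (hvlt : ∀ i, v i < N) (hv'lt : ∀ i, v' i < N)
    (hne : ¬ ∃ a : ℤ, ∀ i, (v i : ℤ) - (v' i : ℤ) = a) :
    ∑ w ∈ univ.filter (fun w : Fin r → Fin N => StrictAnti w ∧ ∃ i, w i = 0),
      minor (fun j a => E N ((v j : ℂ) - ((∑ i, ((v i : ℤ) - v' i) : ℤ) : ℂ) / r) ^ (a : ℕ)) w *
        minor (fun l a => E N (-(v' l : ℂ)) ^ (a : ℕ)) w = 0 := by
  have hN0 : N ≠ 0 := NeZero.ne N
  have hrC : (r : ℂ) ≠ 0 := Nat.cast_ne_zero.mpr (by omega)
  set t : ℤ := ∑ i, ((v i : ℤ) - v' i) with ht
  set A : Fin r → Fin N → ℂ := fun j a => E N ((v j : ℂ) - (t : ℂ) / r) ^ (a : ℕ) with hA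
  set B : Fin r → Fin N → ℂ := fun l a => E N (-(v' l : ℂ)) ^ (a : ℕ) with hB
  have hAB : ∀ j l a, A j a * B l a = E N ((v j : ℂ) - (t : ℂ) / r - v' l) ^ (a : ℕ) := fun j l a => by
    rw [hA, hB, ← mul_pow, ← E_add]
    ring_nf
  have key : ∀ x : ℂ, _ := fun x => det_add_smul_col A B x
  have h01 : ∀ j l, A j 0 * B l 0 = 1 := fun j l => by simp [A, B]
  simp only [h01, mul_one] at key
  suffices h : ∃ α : ℂ, α ≠ 0 ∧ (Matrix.of fun j l => (∑ a, A j a * B l a) + α).det =
      (Matrix.of fun j l => ∑ a, A j a * B l a).det by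
    obtain ⟨α, hα, h⟩ := h
    have := key α
    rw [h, left_eq_add, mul_eq_zero] at this
    exact this.resolve_left hα
  by_cases hdiv : (r : ℤ) ∣ t
  · obtain ⟨s, hs⟩ := hdiv
    have hM : ∀ j l, (∑ a, A j a * B l a) = if (N : ℤ) ∣ (v j : ℤ) - v' l - s then (N : ℂ) else 0 := by
      intro j l
      rw [Finset.sum_congr rfl fun a _ => hAB j l a, ← sum_E_pow_int hN0]
      refine Finset.sum_congr rfl fun a _ => ?_
      congr 2
      rw [hs]
      push_cast
      field_simp
      ring
    refine ⟨1, one_ne_zero, ?_⟩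
    simp only [hM]
    by_cases h2 : ∃ j1 j2 : Fin r, j1 ≠ j2 ∧ (∀ l, ¬ (N : ℤ) ∣ (v j1 : ℤ) - v' l - s) ∧
        (∀ l, ¬ (N : ℤ) ∣ (v j2 : ℤ) - v' l - s)
    · obtain ⟨j1, j2, hj, h1, h2⟩ := h2
      exact (Matrix.det_zero_of_row_eq hj (funext fun l => by simp [h1 l, h2 l])).trans
        (Matrix.det_eq_zero_of_row_eq_zero j1 fun l => by simp [h1 l]).symm
    · exfalso
      push Not at h2
      obtain ⟨j0, hj0⟩ : ∃ j0 : Fin r, ∀ j, j ≠ j0 → ∃ l, (N : ℤ) ∣ (v j : ℤ) - v' l - s := by
        by_cases h3 : ∃ j0, ∀ l, ¬ (N : ℤ) ∣ (v j0 : ℤ) - v' l - s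
        · obtain ⟨j0, hj0⟩ := h3
          exact ⟨j0, fun j hj => h2 j0 j (Ne.symm hj) hj0⟩
        · push Not at h3
          exact ⟨⟨0, by omega⟩, fun j _ => h3 j⟩
      choose! g hg using hj0
      obtain ⟨l0, hl0⟩ : ∃ l0, l0 ∉ (univ.erase j0).image g := by
        by_contra hc
        push Not at hc
        have h4 := card_le_card (show (univ : Finset (Fin r)) ⊆ (univ.erase j0).image g from fun l _ => hc l)
        have h5 := (card_image_le (s := univ.erase j0) (f := g)).trans' h4
        simp [card_erase_of_mem] at h5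
        omega
      let h : Fin r → Fin r := Function.update g j0 l0
      have hinj : Function.Injective h := by
        intro a b hab
        by_contra hne'
        rcases eq_or_ne a j0 with rfl | ha
        · simp [h, Function.update_self, Function.update_of_ne (Ne.symm hne')] at hab
          exact hl0 (mem_image.mpr ⟨b, mem_erase.mpr ⟨Ne.symm hne', mem_univ _⟩, hab.symm⟩)
        rcases eq_or_ne b j0 with rfl | hb
        · simp [h, Function.update_self, Function.update_of_ne hne'] at hab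
          exact hl0 (mem_image.mpr ⟨a, mem_erase.mpr ⟨hne', mem_univ _⟩, hab⟩)
        simp [h, Function.update_of_ne ha, Function.update_of_ne hb] at hab
        have h6 := dvd_sub (hg a ha) (hg b hb)
        rw [hab] at h6
        rw [show (v a : ℤ) - v' (g b) - s - ((v b : ℤ) - v' (g b) - s) = (v a : ℤ) - v b by ring] at h6
        have := hvlt a
        have := hvlt b
        have := Int.eq_zero_of_abs_lt_dvd h6 (abs_lt.mpr ⟨by omega, by omega⟩)
        exact hne' (hv.injective (by omega))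
      let π : Perm (Fin r) := Equiv.ofBijective h (Finite.injective_iff_bijective.mp hinj)
      refine no_perm v v' hv hv' hvlt hv'lt hne s (ht.symm.trans hs) π fun j => ?_
      have hoff : ∀ i, i ≠ j0 → (N : ℤ) ∣ (v i : ℤ) - v' (π i) - s := fun i hi => by
        show (N : ℤ) ∣ (v i : ℤ) - v' (Function.update g j0 l0 i) - s
        rw [Function.update_of_ne hi]
        exact hg i hi
      rcases eq_or_ne j j0 with rfl | hj
      · have hsum : ∑ i, ((v i : ℤ) - v' (π i) - s) = 0 := by
          rw [sum_sub_distrib, sum_sub_distrib, Equiv.sum_comp π (fun i => (v' i : ℤ)), ← sum_sub_distrib,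
            ← ht, hs, sum_const, card_univ, Fintype.card_fin, nsmul_eq_mul, sub_self]
        rw [← add_sum_erase _ _ (mem_univ j), add_eq_zero_iff_eq_neg] at hsum
        rw [hsum, dvd_neg]
        exact dvd_sum fun i hi => hoff i (ne_of_mem_erase hi)
      · exact hoff j hj
  · set α : ℂ := E N (N * (-(t : ℂ) / r)) - 1 with hα
    have hα0 : α ≠ 0 := by
      intro h
      rw [hα, sub_eq_zero] at h
      obtain ⟨d, hd⟩ := (E_eq_one_iff hN0 _).mp h
      refine hdiv ⟨-d, ?_⟩
      have h5 : -(t : ℂ) / r = d := mul_left_cancel₀ (Nat.cast_ne_zero.mpr hN0) hd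
      rw [div_eq_iff hrC] at h5
      exact_mod_cast (show (t : ℂ) = (r : ℂ) * (-d : ℂ) by linear_combination (-1 : ℂ) * h5)
    let a : Fin r → ℂ := fun j => E N ((v j : ℂ) - (t : ℂ) / r)
    let b : Fin r → ℂ := fun l => E N (v' l : ℂ)
    have hNx : ∀ j l, E N (N * ((v j : ℂ) - (t : ℂ) / r - v' l)) = α + 1 := fun j l => by
      rw [hα, sub_add_cancel, show (N : ℂ) * ((v j : ℂ) - (t : ℂ) / r - v' l) =
        (N : ℂ) * ((((v j : ℤ) - v' l : ℤ)) : ℂ) + N * (-(t : ℂ) / r) by push_cast; ring, E_add,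
        E_N_mul hN0, one_mul]
    have hne1 : ∀ j l, E N ((v j : ℂ) - (t : ℂ) / r - v' l) ≠ 1 := fun j l h => hα0 (by
      have := hNx j l
      rw [← E_pow, h, one_pow] at this
      linear_combination -this)
    have hab : ∀ j l, a j - b l ≠ 0 := fun j l h => hne1 j l (by
      rw [E_sub]
      exact (div_eq_one_iff_eq (E_ne_zero _)).mpr (sub_eq_zero.mp h))
    let C : Matrix (Fin r) (Fin r) ℂ := Matrix.of fun j l => α / (a j - b l)
    have hM : ∀ j l, (∑ x, A j x * B l x) = b l * C j l := by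
      intro j l
      rw [Finset.sum_congr rfl fun x _ => hAB j l x, sum_E_pow hN0 _ (hne1 j l), hNx, add_sub_cancel_right,
        E_sub]
      have := hab j l
      have hb0 : b l ≠ 0 := E_ne_zero _
      show α / (a j / b l - 1) = b l * (α / (a j - b l))
      rw [div_sub_one hb0, div_div_eq_mul_div]
      ring
    have hM' : ∀ j l, b l * C j l + α = a j * C j l := by
      intro j l
      show b l * (α / (a j - b l)) + α = a j * (α / (a j - b l))
      have := mul_div_cancel₀ α (hab j l)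
      linear_combination (-1 : ℂ) * this
    refine ⟨α, hα0, ?_⟩
    simp only [hM, hM']
    rw [Matrix.det_mul_row, Matrix.det_mul_column]
    congr 1
    show ∏ j, E N ((v j : ℂ) - (t : ℂ) / r) = ∏ l, E N (v' l : ℂ)
    rw [← E_sum, ← E_sum, sum_sub_distrib, sum_const, card_univ, Fintype.card_fin, nsmul_eq_mul,
      mul_div_cancel₀ _ hrC, ht]
    push_cast
    rw [sum_sub_distrib]
    ring_nf

end Groth.Agent.Verlinde.Orth
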