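import Groth.Agent.Verlinde.Basic

set_option autoImplicit false
set_option linter.style.haveILetI false
open Matrix Equiv Finset Groth.Agent.Verlinde.Basic

namespace Groth.Agent.Verlinde.Schur

variable {r : ℕ}

/-- the alternant -/
noncomputable def alt (z : Fin r → ℂ) (e : Fin r → ℕ) : ℂ := (Matrix.of fun i j => z j ^ e i).det

lemma alt_inv_rev (z : Fin r → ℂ) (hz : ∀ j, z j ≠ 0) :
    alt z (fun i => r - 1 - (i : ℕ)) = (∏ j, z j ^ (r - 1)) * (Matrix.vandermonde fun j => (z j)⁻¹).det := by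
  rw [alt, ← Matrix.det_transpose (Matrix.vandermonde _), ← Matrix.det_mul_row]
  congr 1
  ext i j
  simp only [Matrix.of_apply, Matrix.transpose_apply, Matrix.vandermonde_apply]
  rw [inv_pow, ← pow_sub₀ (z j) (hz j) (by have := i.isLt; omega)]

lemma alt_rev (z : Fin r → ℂ) :
    alt z (fun i => r - 1 - (i : ℕ)) = (Perm.sign (Fin.revPerm : Perm (Fin r)) : ℤ) * (Matrix.vandermonde z).det := by
  rw [← Matrix.det_transpose (Matrix.vandermonde z), ← Matrix.det_permute, alt]
  congr 1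
  ext i j
  simp only [Matrix.of_apply, Matrix.submatrix_apply, Matrix.transpose_apply, Matrix.vandermonde_apply,
    Fin.revPerm_apply, Fin.val_rev, id_eq]
  congr 1
  have := i.isLt
  omega

/-- product of a Schur value with the Schur value of the complementary partition -/
theorem schur_mul (hr : 1 ≤ r) (k : ℕ) (z z' : Fin r → ℂ) (hz' : ∀ j, z' j ^ (r + k) = 1)
    (μ : Fin r → ℕ) (hμ : ∀ i, μ i ≤ k) :
    alt z (fun i => μ i + (r - 1 - (i : ℕ))) / alt z (fun i => r - 1 - (i : ℕ)) *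
      (alt z' (fun i => (k - μ (Fin.rev i)) + (r - 1 - (i : ℕ))) / alt z' (fun i => r - 1 - (i : ℕ))) =
    alt z (fun i => μ i + (r - 1 - (i : ℕ))) *
      alt (fun j => (z' j)⁻¹) (fun i => μ i + (r - 1 - (i : ℕ))) *
      ((∏ j, z' j)⁻¹ / (alt z (fun i => r - 1 - (i : ℕ)) * (Matrix.vandermonde z').det)) := by
  have h1 : alt z' (fun i => (k - μ (Fin.rev i)) + (r - 1 - (i : ℕ))) =
      (Perm.sign (Fin.revPerm : Perm (Fin r)) : ℤ) * alt z' (fun i => r + k - 1 - (μ i + (r - 1 - (i : ℕ)))) := by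
    rw [alt, alt, ← Matrix.det_permute]
    congr 1
    ext i j
    simp only [Matrix.of_apply, Matrix.submatrix_apply, Fin.revPerm_apply, Fin.val_rev, id_eq]
    congr 1
    have := i.isLt
    have := hμ (Fin.rev i)
    omega
  have h2 : alt z' (fun i => r + k - 1 - (μ i + (r - 1 - (i : ℕ)))) =
      (∏ j, (z' j)⁻¹) * alt (fun j => (z' j)⁻¹) (fun i => μ i + (r - 1 - (i : ℕ))) := by
    rw [alt, alt, ← Matrix.det_mul_row]
    congr 1
    ext i j
    simp only [Matrix.of_apply]
    rw [← pow_succ', inv_pow]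
    refine eq_inv_of_mul_eq_one_left ?_
    rw [← pow_add]
    have := i.isLt
    have := hμ i
    rw [show r + k - 1 - (μ i + (r - 1 - (i : ℕ))) + (μ i + (r - 1 - (i : ℕ)) + 1) = r + k by omega]
    exact hz' j
  have hs : ((Perm.sign (Fin.revPerm : Perm (Fin r)) : ℤ) : ℂ) ≠ 0 := by
    exact_mod_cast (Perm.sign (Fin.revPerm : Perm (Fin r))).ne_zero
  rw [h1, h2, alt_rev z', mul_div_mul_left _ _ hs, Finset.prod_inv_distrib]
  simp only [div_eq_mul_inv, mul_inv]
  ring

end Groth.Agent.Verlinde.Schur
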