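import Mathlib.Analysis.SpecialFunctions.Complex.Log
import Mathlib.Analysis.SpecialFunctions.Trigonometric.Basic
import Mathlib.LinearAlgebra.Vandermonde
import Mathlib.LinearAlgebra.Matrix.SchurComplement
import Mathlib.Data.Fin.Tuple.Sort
import Mathlib.Algebra.BigOperators.Fin
import Mathlib.Algebra.Field.GeomSum
import Mathlib.Algebra.BigOperators.Field

set_option autoImplicit false
set_option linter.style.haveILetI false
open Matrix Equiv Finset

namespace Groth.Agent.Verlinde.Basic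

variable {r N : ℕ}

/-- minor of `A` on the tuple of columns `x` -/
noncomputable def minor (A : Fin r → Fin N → ℂ) (x : Fin r → Fin N) : ℂ :=
  (Matrix.of fun j i => A j (x i)).det

lemma minor_mul (A : Fin r → Fin N → ℂ) (w : Fin N → ℂ) (x : Fin r → Fin N) :
    minor (fun j a => w a * A j a) x = (∏ i, w (x i)) * minor A x :=
  Matrix.det_mul_row (fun i => w (x i)) (Matrix.of fun j i => A j (x i))

lemma minor_comp (A : Fin r → Fin N → ℂ) (x : Fin r → Fin N) (σ : Perm (Fin r)) :
    minor A (x ∘ σ) = (Perm.sign σ : ℤ) * minor A x :=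
  Matrix.det_permute' σ (Matrix.of fun j i => A j (x i))

lemma minor_eq_zero (A : Fin r → Fin N → ℂ) {x : Fin r → Fin N} (hx : ¬ Function.Injective x) :
    minor A x = 0 := by
  simp only [Function.Injective, not_forall] at hx
  obtain ⟨i, j, hij, hne⟩ := hx
  exact Matrix.det_zero_of_column_eq hne fun l => by simp [hij]

/-- summing a symmetric function vanishing off injective tuples -/
lemma sum_eq_factorial_mul (g : (Fin r → Fin N) → ℂ)
    (hg : ∀ x (σ : Perm (Fin r)), g (x ∘ σ) = g x) (hg0 : ∀ x, ¬ Function.Injective x → g x = 0) :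
    ∑ x, g x = (r.factorial : ℂ) *
      ∑ v ∈ univ.filter (fun v : Fin r → Fin N => StrictAnti v), g v := by
  rw [← sum_subset (subset_univ (univ.filter fun x : Fin r → Fin N => Function.Injective x))
    (fun x _ hx => hg0 x fun h => hx (mem_filter.mpr ⟨mem_univ _, h⟩))]
  have h : ∑ p ∈ (univ : Finset (Perm (Fin r))) ×ˢ univ.filter (fun v : Fin r → Fin N => StrictAnti v),
      g p.2 = ∑ x ∈ univ.filter (fun x : Fin r → Fin N => Function.Injective x), g x := by
    refine sum_bij (fun p _ => p.2 ∘ p.1) ?_ ?_ ?_ ?_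
    · intro p hp
      simp only [mem_product, mem_filter, mem_univ, true_and] at hp
      exact mem_filter.mpr ⟨mem_univ _, hp.injective.comp p.1.injective⟩
    · intro p hp q hq hpq
      simp only [mem_product, mem_filter, mem_univ, true_and] at hp hq
      have hr := congrArg Set.range hpq
      rw [EquivLike.range_comp, EquivLike.range_comp] at hr
      have h2 : p.2 = q.2 := (StrictAnti.range_inj hp hq).mp hr
      refine Prod.ext (Equiv.ext fun i => hq.injective ?_) h2
      simpa [h2] using congrFun hpq i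
    · intro x hx
      simp only [mem_filter, mem_univ, true_and] at hx
      let σ : Perm (Fin r) := Fin.revPerm.trans (Tuple.sort x)
      have hsm : StrictMono (x ∘ Tuple.sort x) :=
        (Tuple.monotone_sort x).strictMono_of_injective (hx.comp (Tuple.sort x).injective)
      refine ⟨(σ.symm, x ∘ σ), ?_, ?_⟩
      · simp only [mem_product, mem_filter, mem_univ, true_and]
        exact hsm.comp_strictAnti Fin.rev_strictAnti
      · funext i
        simp [σ]
    · intro p _
      exact (hg p.2 p.1).symm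
  rw [← h, sum_product]
  simp [Fintype.card_perm]

theorem cauchyBinet (A B : Fin r → Fin N → ℂ) :
    ∑ v ∈ univ.filter (fun v : Fin r → Fin N => StrictAnti v), minor A v * minor B v =
      (Matrix.of fun j l => ∑ a, A j a * B l a).det := by
  set M : Matrix (Fin r) (Fin r) ℂ := Matrix.of fun j l => ∑ a, A j a * B l a
  apply mul_left_cancel₀ (Nat.cast_ne_zero.mpr r.factorial_ne_zero : (r.factorial : ℂ) ≠ 0)
  rw [← sum_eq_factorial_mul (fun x => minor A x * minor B x)]
  · have h1 : ∀ x : Fin r → Fin N, minor A x * minor B x = ∑ σ : Perm (Fin r), ∑ τ : Perm (Fin r),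
        ((Perm.sign σ : ℤ) : ℂ) * ((Perm.sign τ : ℤ) : ℂ) * ∏ i, A (σ i) (x i) * B (τ i) (x i) := by
      intro x
      rw [minor, minor, Matrix.det_apply', Matrix.det_apply', sum_mul_sum]
      refine sum_congr rfl fun σ _ => sum_congr rfl fun τ _ => ?_
      simp only [Matrix.of_apply, prod_mul_distrib]
      ring
    have h2 : ∀ σ : Perm (Fin r), ∑ τ : Perm (Fin r),
        ((Perm.sign σ : ℤ) : ℂ) * ((Perm.sign τ : ℤ) : ℂ) * ∏ i, M (σ i) (τ i) = M.det := by
      intro σ
      rw [← Equiv.sum_comp (Equiv.mulRight σ), ← Matrix.det_transpose, Matrix.det_apply']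
      refine sum_congr rfl fun π _ => ?_
      have hs : ((Perm.sign σ : ℤ) : ℂ) * ((Perm.sign (π * σ) : ℤ) : ℂ) = ((Perm.sign π : ℤ) : ℂ) := by
        rw [← Int.cast_mul, map_mul, Units.val_mul, mul_comm ((Perm.sign π : ℤ)), ← mul_assoc,
          Int.units_coe_mul_self, one_mul]
      show ((Perm.sign σ : ℤ) : ℂ) * ((Perm.sign (π * σ) : ℤ) : ℂ) * ∏ i, M (σ i) ((π * σ) i) = _
      rw [hs, ← Equiv.prod_comp σ (fun i => Matrix.transpose M (π i) i)]
      rfl
    simp only [h1]
    rw [sum_comm]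
    simp_rw [sum_comm (s := (univ : Finset (Fin r → Fin N))), ← mul_sum]
    rw [show (r.factorial : ℂ) * M.det = ∑ _σ : Perm (Fin r), M.det by simp [Fintype.card_perm]]
    refine sum_congr rfl fun σ _ => (sum_congr rfl fun τ _ => ?_).trans (h2 σ)
    congr 1
    exact (Fintype.prod_sum fun i a => A (σ i) a * B (τ i) a).symm
  · intro x σ
    rw [minor_comp, minor_comp, mul_mul_mul_comm, ← Int.cast_mul, Int.units_coe_mul_self, Int.cast_one,
      one_mul]
  · intro x hx
    rw [minor_eq_zero A hx, zero_mul]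

lemma last_zero_iff [NeZero N] (hr : 1 ≤ r) {v : Fin r → Fin N} (hv : StrictAnti v) :
    (∀ i : Fin r, (i : ℕ) = r - 1 → (v i : ℕ) = 0) ↔ ∃ i, v i = 0 := by
  constructor
  · intro h
    exact ⟨⟨r - 1, by omega⟩, Fin.ext (by simpa using h _ rfl)⟩
  · rintro ⟨i, hi⟩ j hj
    have hle : i ≤ j := Fin.le_def.mpr (by have := i.isLt; omega)
    have := hv.antitone hle
    rw [hi, Fin.le_def] at this
    simpa using this

/-- adding `t` times the rank one contribution of the column `0` -/
theorem det_add_smul_col [NeZero N] (A B : Fin r → Fin N → ℂ) (t : ℂ) :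
    (Matrix.of fun j l => (∑ a, A j a * B l a) + t * (A j 0 * B l 0)).det =
      (Matrix.of fun j l => ∑ a, A j a * B l a).det + t *
        ∑ v ∈ univ.filter (fun v : Fin r → Fin N => StrictAnti v ∧ ∃ i, v i = 0),
          minor A v * minor B v := by
  let w : Fin N → ℂ := fun a => if a = 0 then 1 + t else 1
  have h := cauchyBinet (fun j a => w a * A j a) B
  have hM : (Matrix.of fun j l => ∑ a, (w a * A j a) * B l a) =
      Matrix.of fun j l => (∑ a, A j a * B l a) + t * (A j 0 * B l 0) := by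
    ext j l
    simp only [Matrix.of_apply]
    rw [← sub_eq_iff_eq_add', ← sum_sub_distrib, sum_eq_single 0 (fun a _ ha => by simp [w, ha]) (by simp)]
    simp [w]
    ring
  rw [hM] at h
  rw [← h, ← cauchyBinet A B, mul_sum]
  simp only [sum_filter]
  rw [← sum_add_distrib]
  refine sum_congr rfl fun v _ => ?_
  by_cases hv : StrictAnti v
  swap
  · rw [if_neg hv, if_neg hv, if_neg (fun h => hv h.1), add_zero]
  rw [if_pos hv, if_pos hv, minor_mul]
  by_cases h0 : ∃ i, v i = 0
  · obtain ⟨i, hi⟩ := h0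
    rw [if_pos ⟨hv, i, hi⟩, prod_eq_single i (fun l _ hl => ?_) (by simp)]
    · simp [w, hi]
      ring
    · have : v l ≠ 0 := fun hl0 => hl (hv.injective (hl0.trans hi.symm))
      simp [w, this]
  · rw [if_neg (fun h => h0 h.2), prod_eq_one (fun l _ => if_neg fun hl => h0 ⟨l, hl⟩)]
    ring

/-- `exp (2 π i x / N)` -/
noncomputable def E (N : ℕ) (x : ℂ) : ℂ := Complex.exp (2 * Real.pi * Complex.I * x / N)

lemma E_zero : E N 0 = 1 := by simp [E]

lemma E_add (x y : ℂ) : E N (x + y) = E N x * E N y := by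
  rw [E, E, E, ← Complex.exp_add, mul_add, add_div]

lemma E_neg (x : ℂ) : E N (-x) = (E N x)⁻¹ := by
  rw [E, E, ← Complex.exp_neg, mul_neg, neg_div]

lemma E_sub (x y : ℂ) : E N (x - y) = E N x / E N y := by
  rw [sub_eq_add_neg, E_add, E_neg, div_eq_mul_inv]

lemma E_pow (x : ℂ) (a : ℕ) : E N x ^ a = E N (a * x) := by
  rw [E, E, ← Complex.exp_nat_mul]
  congr 1
  ring

lemma E_ne_zero (x : ℂ) : E N x ≠ 0 := Complex.exp_ne_zero _

lemma E_sum {ι : Type*} (s : Finset ι) (x : ι → ℂ) : E N (∑ i ∈ s, x i) = ∏ i ∈ s, E N (x i) := by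
  rw [E, mul_sum, sum_div, Complex.exp_sum]
  rfl

lemma E_eq_one_iff (hN : N ≠ 0) (x : ℂ) : E N x = 1 ↔ ∃ d : ℤ, x = N * d := by
  have hN' : (N : ℂ) ≠ 0 := Nat.cast_ne_zero.mpr hN
  have hc : (2 * Real.pi * Complex.I : ℂ) ≠ 0 := Complex.two_pi_I_ne_zero
  rw [E, Complex.exp_eq_one_iff]
  refine exists_congr fun d => ?_
  rw [div_eq_iff hN']
  constructor
  · intro h
    apply mul_left_cancel₀ hc
    rw [h]
    ring
  · intro h
    rw [h]
    ring

lemma E_N_mul (hN : N ≠ 0) (d : ℤ) : E N (N * (d : ℂ)) = 1 := (E_eq_one_iff hN _).mpr ⟨d, rfl⟩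

lemma E_natCast_pow_N (hN : N ≠ 0) (v : ℕ) : E N (v : ℂ) ^ N = 1 := by
  rw [E_pow]
  exact_mod_cast E_N_mul hN v

lemma E_intCast_eq_one_iff (hN : N ≠ 0) (x : ℤ) : E N (x : ℂ) = 1 ↔ (N : ℤ) ∣ x := by
  rw [E_eq_one_iff hN]
  exact ⟨fun ⟨d, hd⟩ => ⟨d, by exact_mod_cast hd⟩, fun ⟨d, hd⟩ => ⟨d, by exact_mod_cast hd⟩⟩

lemma E_natCast_inj {a b : ℕ} (ha : a < N) (hb : b < N) : E N (a : ℂ) = E N (b : ℂ) ↔ a = b := by
  refine ⟨fun h => ?_, fun h => h ▸ rfl⟩
  have h1 : E N (((a : ℤ) - b : ℤ) : ℂ) = 1 := by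
    push_cast
    rw [E_sub, h, div_self (E_ne_zero _)]
  obtain ⟨d, hd⟩ := (E_intCast_eq_one_iff (by omega) _).mp h1
  have : d = 0 := by nlinarith [show -(N : ℤ) < a - b by omega, show (a : ℤ) - b < N by omega]
  subst this
  omega

lemma sum_E_pow (hN : N ≠ 0) (x : ℂ) (hx : E N x ≠ 1) :
    ∑ a : Fin N, E N x ^ (a : ℕ) = (E N (N * x) - 1) / (E N x - 1) := by
  rw [Fin.sum_univ_eq_sum_range (fun a => E N x ^ a), geom_sum_eq hx, E_pow]

lemma sum_E_pow_int (hN : N ≠ 0) (x : ℤ) :
    ∑ a : Fin N, E N (x : ℂ) ^ (a : ℕ) = if (N : ℤ) ∣ x then (N : ℂ) else 0 := by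
  split_ifs with h
  · simp [(E_intCast_eq_one_iff hN x).mpr h]
  · rw [sum_E_pow hN _ (fun h1 => h ((E_intCast_eq_one_iff hN x).mp h1)), E_N_mul hN, sub_self, zero_div]

lemma det_smul_one_add (c : ℂ) (hc : c ≠ 0) (hr : 1 ≤ r) (u w : Fin r → ℂ) :
    (Matrix.of fun j l => (if j = l then c else 0) + u j * w l).det =
      c ^ (r - 1) * (c + ∑ j, w j * u j) := by
  have h : (Matrix.of fun j l => (if j = l then c else 0) + u j * w l) =
      c • (1 + Matrix.replicateCol Unit (c⁻¹ • u) * Matrix.replicateRow Unit w) := by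
    ext j l
    simp [Matrix.mul_apply, Matrix.one_apply, mul_add, mul_assoc]
    field_simp
  rw [h, Matrix.det_smul, Matrix.det_one_add_replicateCol_mul_replicateRow, Fintype.card_fin]
  simp only [dotProduct, Pi.smul_apply, smul_eq_mul]
  obtain ⟨r, rfl⟩ := Nat.exists_eq_succ_of_ne_zero (by omega : r ≠ 0)
  rw [Nat.succ_sub_one, pow_succ, mul_assoc, mul_add, mul_one, mul_sum]
  congr 2
  refine sum_congr rfl fun i _ => ?_
  field_simp

/-- Vandermonde times conjugate Vandermonde -/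
theorem vandermonde_mul_inv (v : Fin r → ℕ) :
    (Matrix.vandermonde fun j => E N (v j : ℂ)).det * (Matrix.vandermonde fun j => E N (-(v j : ℂ))).det =
      ((∏ p ∈ (univ : Finset (Fin r × Fin r)).filter (fun p => p.1 < p.2),
        ((2 : ℝ) * Real.sin (Real.pi * ((v p.1 : ℝ) - (v p.2 : ℝ)) / (N : ℝ))) ^ 2 : ℝ) : ℂ) := by
  rw [Matrix.det_vandermonde, Matrix.det_vandermonde, ← prod_mul_distrib, Complex.ofReal_prod,
    prod_filter, Fintype.prod_prod_type]
  refine prod_congr rfl fun i _ => ?_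
  rw [← prod_mul_distrib, ← prod_filter]
  refine prod_congr (by ext; simp) fun j _ => ?_
  push_cast
  set y : ℂ := Real.pi * ((v i : ℂ) - v j) / N with hy
  rw [mul_pow 2 (Complex.sin y), ← mul_pow, Complex.two_sin, mul_pow, Complex.I_sq]
  have e1 : E N (v i : ℂ) * E N (-(v j : ℂ)) = Complex.exp (y * Complex.I) ^ 2 := by
    rw [← E_add, ← Complex.exp_nat_mul, E]
    congr 1
    rw [hy]
    push_cast
    ring
  have e2 : E N (v j : ℂ) * E N (-(v i : ℂ)) = Complex.exp (-y * Complex.I) ^ 2 := by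
    rw [← E_add, ← Complex.exp_nat_mul, E]
    congr 1
    rw [hy]
    push_cast
    ring
  have e3 : ∀ x : ℂ, E N x * E N (-x) = 1 := fun x => by rw [← E_add, add_neg_cancel, E_zero]
  have e4 : Complex.exp (-y * Complex.I) * Complex.exp (y * Complex.I) = 1 := by
    rw [← Complex.exp_add, neg_mul, neg_add_cancel, Complex.exp_zero]
  linear_combination (e3 (v j : ℂ)) + (e3 (v i : ℂ)) - e1 - e2 - 2 * e4

lemma add_rev_le {v : Fin r → ℕ} (hv : StrictAnti v) {i j : Fin r} (hij : i ≤ j) :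
    v j + (j : ℕ) ≤ v i + (i : ℕ) := by
  have : ∀ d : ℕ, ∀ i j : Fin r, (i : ℕ) + d = j → v j + d ≤ v i := by
    intro d
    induction d with
    | zero => intro i j h; rw [Fin.ext (show (i : ℕ) = j by omega)]; simp
    | succ d ih =>
      intro i j h
      have hj := j.isLt
      have h1 := ih i ⟨(i : ℕ) + d, by omega⟩ rfl
      have h2 := hv (show (⟨(i : ℕ) + d, by omega⟩ : Fin r) < j from Fin.lt_def.mpr (by simp; omega))
      omega
  have := this ((j : ℕ) - i) i j (by omega)
  omega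

/-- partitions in a box and strictly decreasing exponent tuples -/
lemma sum_antitone_eq (hr : 1 ≤ r) (m n : ℕ) (hn : n = m + r) (F : (Fin r → ℕ) → ℂ)
    (P : (Fin r → ℕ) → Prop) [DecidablePred P] :
    ∑ μ ∈ (univ : Finset (Fin r → Fin (m + 1))).filter
        (fun μ : Fin r → Fin (m + 1) => Antitone μ ∧ P (fun i => (μ i : ℕ) + (r - 1 - (i : ℕ)))),
      F (fun i => (μ i : ℕ) + (r - 1 - (i : ℕ))) =
    ∑ v ∈ (univ : Finset (Fin r → Fin n)).filter (fun v : Fin r → Fin n => StrictAnti v ∧ P (fun i => (v i : ℕ))),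
      F (fun i => (v i : ℕ)) := by
  have hbound : ∀ v : Fin r → Fin n, StrictAnti v → ∀ i : Fin r, r - 1 - (i : ℕ) ≤ (v i : ℕ) ∧
      (v i : ℕ) - (r - 1 - (i : ℕ)) < m + 1 := by
    intro v hv i
    have hv' : StrictAnti fun i => (v i : ℕ) := hv
    have h1 := add_rev_le hv' (show i ≤ ⟨r - 1, by omega⟩ from Fin.le_def.mpr (by have := i.isLt; simp; omega))
    have h2 := add_rev_le hv' (show (⟨0, by omega⟩ : Fin r) ≤ i from Fin.le_def.mpr (Nat.zero_le _))
    have h3 := (v ⟨0, by omega⟩).isLt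
    simp only at h1 h2
    omega
  refine sum_bij'
    (fun μ _ i => (⟨(μ i : ℕ) + (r - 1 - (i : ℕ)), by have := (μ i).isLt; omega⟩ : Fin n))
    (fun v hv i => (⟨(v i : ℕ) - (r - 1 - (i : ℕ)), (hbound v (mem_filter.mp hv).2.1 i).2⟩ : Fin (m + 1)))
    ?_ ?_ ?_ ?_ ?_
  · intro μ hμ
    simp only [mem_filter, mem_univ, true_and] at hμ ⊢
    refine ⟨fun i j hij => ?_, hμ.2⟩
    have := Fin.le_def.mp (hμ.1 hij.le)
    rw [Fin.lt_def] at hij ⊢
    have := j.isLt
    simp only
    omega
  · intro v hv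
    simp only [mem_filter, mem_univ, true_and] at hv ⊢
    refine ⟨fun i j hij => ?_, ?_⟩
    · have h1 := add_rev_le (v := fun i => (v i : ℕ)) hv.1 hij
      have := (hbound v hv.1 j).1
      have := (hbound v hv.1 i).1
      rw [Fin.le_def]
      simp only at h1 ⊢
      have := j.isLt
      have := Fin.le_def.mp hij
      omega
    · convert hv.2 using 2 with i
      exact Nat.sub_add_cancel (hbound v hv.1 i).1
  · intro μ _
    funext i
    ext
    simp
  · intro v hv
    funext i
    ext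
    exact Nat.sub_add_cancel (hbound v (mem_filter.mp hv).2.1 i).1
  · intro μ _
    rfl

end Groth.Agent.Verlinde.Basic
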